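import Cfsg.Agent.Spor.LyUD.V.D0

set_option autoImplicit false
set_option maxRecDepth 100000000
set_option Elab.async false

namespace Cfsg.Agent.Spor.LyUD.V

theorem okL : LyUE.D.okL 597 [4, 2, 3, 1, 0, 15, 5] [[13], [4, 2], [11, 6, 4, 10], [0, 6, 2, 6, 0], [6, 2, 6, 11, 2, 0], [2, 4, 2, 4, 2, 4, 2, 10, 4, 2, 6, 4, 2, 6, 11, 6], [6, 8, 6, 0, 2, 4, 6, 8, 6, 11, 4, 2, 6, 8, 6]] = true := by decide +kernel

theorem okS0 : LyUE.D.okS 597 0 [7, 8, 9, 10, 12, 13, 14] [[0], [2], [4], [6], [8], [10], [12]] = true := by decide +kernel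

theorem okS1 : LyUE.D.okS 597 1 [4, 2, 3, 1, 0, 15, 5] [[6, 10, 6, 2, 4, 6, 2, 4, 11, 2, 4, 2, 4, 2, 4, 2], [0, 4, 2, 11, 4, 2, 4, 11], [2, 4, 11, 4, 6, 2, 4, 6, 11, 6, 2, 4, 13], [0, 2, 4, 11, 6, 2, 4, 6, 2, 4, 6, 11, 13], [4, 6, 10, 4, 2, 4, 6, 2, 6, 11, 4, 2, 4, 2, 4, 2, 4, 2, 13], [13], [8, 6, 10, 0, 8, 6, 4, 2, 6, 8, 6, 2, 8, 6, 8, 0, 11, 6, 8]] = true := by decide +kernel

theorem ed2a : lall (LyUE.D.okEd 597 1 J) ed2 = true := by decide +kernel

theorem ed2b : band (lall (fun e => lall (fun y => Nat.blt y (2 * 7)) e.w) ed2) (sub 0x3b (edMask (U.pls 14 (2 * 7) 0) ed2)) = true := by decide +kernel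

theorem gr3 : sub (ones 15400) (U.growI W1 [0, 1, 2, 3, 4, 6, 6, 4, 3, 2, 1, 0, 1, 2, 3, 4, 6, 6, 4, 3] 0x3b) = true := by decide +kernel

theorem okS3 : LyUE.D.okS 597 3 [238, 242] [[12, 10, 4, 11, 2, 4, 6, 2, 6, 2, 6], [12, 0, 6, 2, 4, 11, 6, 2, 4, 11, 2]] = true := by decide +kernel

theorem ed5a : lall (LyUE.D.okEd 597 3 J) ed5 = true := by decide +kernel

theorem ed5b : band (lall (fun e => lall (fun y => Nat.blt y (2 * 7)) e.w) ed5) (sub M6 (edMask (U.pls 14 (2 * 7) 0) ed5)) = true := by decide +kernel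

theorem gr7 : sub (ones 15400) (U.growI W4 [0, 1, 1, 0, 0, 1, 1, 0, 0, 1, 1, 0, 0, 1, 1, 0, 0, 1, 1, 0, 0, 1, 1, 0, 0, 1] M6) = true := by decide +kernel

theorem okS4 : LyUE.D.okS 597 4 [445, 446] [[13, 10, 4, 6, 2, 6, 11, 2, 0, 6, 4, 2, 6], [2, 6, 10, 2, 6, 2, 4, 6, 2, 4, 10, 6]] = true := by decide +kernel

theorem ed9a : lall (LyUE.D.okEd 597 4 J) ed9 = true := by decide +kernel

theorem ed9b : band (lall (fun e => lall (fun y => Nat.blt y (2 * 7)) e.w) ed9) (sub M10 (edMask (U.pls 14 (2 * 7) 0) ed9)) = true := by decide +kernel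

theorem ed11a : lall (LyUE.D.okEd 597 4 J) ed11 = true := by decide +kernel

theorem ed11b : band (lall (fun e => lall (fun y => Nat.blt y (2 * 7)) e.w) ed11) (sub M12 (edMask (U.pls 14 (2 * 7) 0) ed11)) = true := by decide +kernel

theorem ed13a : lall (LyUE.D.okEd 597 4 J) ed13 = true := by decide +kernel

theorem ed13b : band (lall (fun e => lall (fun y => Nat.blt y (2 * 7)) e.w) ed13) (sub M14 (edMask (U.pls 14 (2 * 7) 0) ed13)) = true := by decide +kernel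

theorem gr15 : sub (ones 15400) (U.growI W8 [0, 1, 1, 0, 0, 1, 1, 0, 0, 1, 1, 0, 0, 1, 1, 0, 0, 1, 1, 0, 0, 1] (Nat.lor (Nat.lor M10 M12) M14)) = true := by decide +kernel

theorem okS5 : LyUE.D.okS 597 5 [480, 484] [[6, 8, 2, 6, 2, 6, 11, 8, 4, 11, 6, 2, 6, 2, 6, 2, 8, 6, 4, 10, 6], [11, 4, 2, 4, 2, 8, 4, 6, 2, 6, 8, 6, 0, 2, 4, 6, 8, 6, 2, 6, 10, 6]] = true := by decide +kernel

theorem ed17a : lall (LyUE.D.okEd 597 5 J) ed17 = true := by decide +kernel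

theorem ed17b : band (lall (fun e => lall (fun y => Nat.blt y (2 * 7)) e.w) ed17) (sub M18 (edMask (U.pls 14 (2 * 7) 0) ed17)) = true := by decide +kernel

theorem ed19a : lall (LyUE.D.okEd 597 5 J) ed19 = true := by decide +kernel

theorem ed19b : band (lall (fun e => lall (fun y => Nat.blt y (2 * 7)) e.w) ed19) (sub M20 (edMask (U.pls 14 (2 * 7) 0) ed19)) = true := by decide +kernel

theorem ed21a : lall (LyUE.D.okEd 597 5 J) ed21 = true := by decide +kernel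

theorem ed21b : band (lall (fun e => lall (fun y => Nat.blt y (2 * 7)) e.w) ed21) (sub M22 (edMask (U.pls 14 (2 * 7) 0) ed21)) = true := by decide +kernel

theorem ed23a : lall (LyUE.D.okEd 597 5 J) ed23 = true := by decide +kernel

theorem ed23b : band (lall (fun e => lall (fun y => Nat.blt y (2 * 7)) e.w) ed23) (sub M24 (edMask (U.pls 14 (2 * 7) 0) ed23)) = true := by decide +kernel

theorem ed25a : lall (LyUE.D.okEd 597 5 J) ed25 = true := by decide +kernel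

theorem ed25b : band (lall (fun e => lall (fun y => Nat.blt y (2 * 7)) e.w) ed25) (sub M26 (edMask (U.pls 14 (2 * 7) 0) ed25)) = true := by decide +kernel

theorem ed27a : lall (LyUE.D.okEd 597 5 J) ed27 = true := by decide +kernel

theorem ed27b : band (lall (fun e => lall (fun y => Nat.blt y (2 * 7)) e.w) ed27) (sub M28 (edMask (U.pls 14 (2 * 7) 0) ed27)) = true := by decide +kernel

theorem gr29 : sub (ones 15400) (U.growI W16 [0, 1, 0, 0, 1, 0, 0, 1, 0, 0, 1, 0, 0, 1, 0, 0, 1, 0, 0, 1] (Nat.lor (Nat.lor (Nat.lor (Nat.lor (Nat.lor M18 M20) M22) M24) M26) M28)) = true := by decide +kernel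

theorem rinv : band (Nat.blt 6 597) ((LyUE.D.fc 6).onR fun r => onCons r fun _ r' => onCons r' fun _ => isNil) = true := by decide +kernel

end Cfsg.Agent.Spor.LyUD.V
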