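import Cfsg.Agent.Spor.Prim
import Cfsg.Agent.Spor.LyUD.Main
import Cfsg.Agent.Spor.LyUD.V.C0
import Cfsg.Agent.Spor.DE3
import Cfsg.Agent.Spor.LyUY.D0
import Cfsg.Agent.Spor.LyUE.Main

set_option autoImplicit false
set_option maxRecDepth 100000000
set_option Elab.async false

namespace Cfsg.Agent.Spor.LyUD.V

theorem hU : U.Ok 14 := U.ok_of 14 (show AllP (fun n => Net.okb 14 n = true) [n0, n1, n2, n3, n4, n5, n6] from AllP.cons ok0 (AllP.cons ok1 (AllP.cons ok2 (AllP.cons ok3 (AllP.cons ok4 (AllP.cons ok5 (AllP.cons ok6 (AllP.nil))))))))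

section
variable {R : Type} [CommRing R] {Γ : Type} [Group Γ] {G : Type} [Group G] {Y : DCtx LyUE.D R Γ G}
  {p : ℕ → Γ} {φ : Γ →* Equiv.Perm ℕ}
  (hu : Y.Upto 597) (hg : Y.X.Gens LyUE.TT (atm 7 p)) (hφ : ∀ j < 7, φ (p j) = fP j)
  (ha : CosetAct (wsub 7 p LyUY.LW) φ 15400)
include hu hg hφ ha

theorem env : Y.Env 597 7 p φ 15400 U 14 :=
  ⟨hu, LyUE.one, hg, ⟨_, ha, hu.okL LyUE.one hg okL⟩, hU,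
    Tab.Link.of (fun j hj => (hφ j hj).trans (by interval_cases j <;> rfl)) (by decide +kernel)⟩
omit hφ ha in
theorem cos0 (ht : gsub 7 p = ⊤) (hM : Nat.card Γ = 5388768000) : Y.CosOk 7 p J (0, [[0], [2], [4], [6], [8], [10], [12]], 5388768000) :=
  DCtx.cos_zero hu LyUE.one hg ht hM okS0 (by decide +kernel)
theorem hW1 : U.lsub W1 ≤ (Y.stabS (Y.sym 1)).map φ := (env hu hg hφ ha).hW okS1 (by decide +kernel)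
theorem cos1 (h : 349920 ∣ Nat.card (wsub 7 p [[6, 10, 6, 2, 4, 6, 2, 4, 11, 2, 4, 2, 4, 2, 4, 2], [0, 4, 2, 11, 4, 2, 4, 11], [2, 4, 11, 4, 6, 2, 4, 6, 11, 6, 2, 4, 13], [0, 2, 4, 11, 6, 2, 4, 6, 2, 4, 6, 11, 13], [4, 6, 10, 4, 2, 4, 6, 2, 6, 11, 4, 2, 4, 2, 4, 2, 4, 2, 13], [13], [8, 6, 10, 0, 8, 6, 4, 2, 6, 8, 6, 2, 8, 6, 8, 0, 11, 6, 8]])) : Y.CosOk 7 p J (1, [[6, 10, 6, 2, 4, 6, 2, 4, 11, 2, 4, 2, 4, 2, 4, 2], [0, 4, 2, 11, 4, 2, 4, 11], [2, 4, 11, 4, 6, 2, 4, 6, 11, 6, 2, 4, 13], [0, 2, 4, 11, 6, 2, 4, 6, 2, 4, 6, 11, 13], [4, 6, 10, 4, 2, 4, 6, 2, 6, 11, 4, 2, 4, 2, 4, 2, 4, 2, 13], [13], [8, 6, 10, 0, 8, 6, 4, 2, 6, 8, 6, 2, 8, 6, 8, 0, 11, 6, 8]], 349920) :=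
  (env hu hg hφ ha).cos okS1 h (((env hu hg hφ ha).edges ed2a ed2b).grow hU (hW1 hu hg hφ ha) gr3)
theorem hW3 : U.lsub W4 ≤ (Y.stabS (Y.sym 3)).map φ := (env hu hg hφ ha).hW okS3 (by decide +kernel)
theorem cos3 (h : 10080 ∣ Nat.card (wsub 7 p [[12, 10, 4, 11, 2, 4, 6, 2, 6, 2, 6], [12, 0, 6, 2, 4, 11, 6, 2, 4, 11, 2]])) : Y.CosOk 7 p J (3, [[12, 10, 4, 11, 2, 4, 6, 2, 6, 2, 6], [12, 0, 6, 2, 4, 11, 6, 2, 4, 11, 2]], 10080) :=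
  (env hu hg hφ ha).cos okS3 h (((env hu hg hφ ha).edges ed5a ed5b).grow hU (hW3 hu hg hφ ha) gr7)
theorem hW4 : U.lsub W8 ≤ (Y.stabS (Y.sym 4)).map φ := (env hu hg hφ ha).hW okS4 (by decide +kernel)
theorem cos4 (h : 2880 ∣ Nat.card (wsub 7 p [[13, 10, 4, 6, 2, 6, 11, 2, 0, 6, 4, 2, 6], [2, 6, 10, 2, 6, 2, 4, 6, 2, 4, 10, 6]])) : Y.CosOk 7 p J (4, [[13, 10, 4, 6, 2, 6, 11, 2, 0, 6, 4, 2, 6], [2, 6, 10, 2, 6, 2, 4, 6, 2, 4, 10, 6]], 2880) :=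
  (env hu hg hφ ha).cos okS4 h (((((env hu hg hφ ha).edges ed9a ed9b).lor ((env hu hg hφ ha).edges ed11a ed11b)).lor ((env hu hg hφ ha).edges ed13a ed13b)).grow hU (hW4 hu hg hφ ha) gr15)
theorem hW5 : U.lsub W16 ≤ (Y.stabS (Y.sym 5)).map φ := (env hu hg hφ ha).hW okS5 (by decide +kernel)
theorem cos5 (h : 750 ∣ Nat.card (wsub 7 p [[6, 8, 2, 6, 2, 6, 11, 8, 4, 11, 6, 2, 6, 2, 6, 2, 8, 6, 4, 10, 6], [11, 4, 2, 4, 2, 8, 4, 6, 2, 6, 8, 6, 0, 2, 4, 6, 8, 6, 2, 6, 10, 6]])) : Y.CosOk 7 p J (5, [[6, 8, 2, 6, 2, 6, 11, 8, 4, 11, 6, 2, 6, 2, 6, 2, 8, 6, 4, 10, 6], [11, 4, 2, 4, 2, 8, 4, 6, 2, 6, 8, 6, 0, 2, 4, 6, 8, 6, 2, 6, 10, 6]], 750) :=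
  (env hu hg hφ ha).cos okS5 h ((((((((env hu hg hφ ha).edges ed17a ed17b).lor ((env hu hg hφ ha).edges ed19a ed19b)).lor ((env hu hg hφ ha).edges ed21a ed21b)).lor ((env hu hg hφ ha).edges ed23a ed23b)).lor ((env hu hg hφ ha).edges ed25a ed25b)).lor ((env hu hg hφ ha).edges ed27a ed27b)).grow hU (hW5 hu hg hφ ha) gr29)
theorem done (ht : gsub 7 p = ⊤) (hM : Nat.card Γ = 5388768000)
    (h1 : 349920 ∣ Nat.card (wsub 7 p [[6, 10, 6, 2, 4, 6, 2, 4, 11, 2, 4, 2, 4, 2, 4, 2], [0, 4, 2, 11, 4, 2, 4, 11], [2, 4, 11, 4, 6, 2, 4, 6, 11, 6, 2, 4, 13], [0, 2, 4, 11, 6, 2, 4, 6, 2, 4, 6, 11, 13], [4, 6, 10, 4, 2, 4, 6, 2, 6, 11, 4, 2, 4, 2, 4, 2, 4, 2, 13], [13], [8, 6, 10, 0, 8, 6, 4, 2, 6, 8, 6, 2, 8, 6, 8, 0, 11, 6, 8]])) (h3 : 10080 ∣ Nat.card (wsub 7 p [[12, 10, 4, 11, 2, 4,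 6, 2, 6, 2, 6], [12, 0, 6, 2, 4, 11, 6, 2, 4, 11, 2]])) (h4 : 2880 ∣ Nat.card (wsub 7 p [[13, 10, 4, 6, 2, 6, 11, 2, 0, 6, 4, 2, 6], [2, 6, 10, 2, 6, 2, 4, 6, 2, 4, 10, 6]])) (h5 : 750 ∣ Nat.card (wsub 7 p [[6, 8, 2, 6, 2, 6, 11, 8, 4, 11, 6, 2, 6, 2, 6, 2, 8, 6, 4, 10, 6], [11, 4, 2, 4, 2, 8, 4, 6, 2, 6, 8, 6, 0, 2, 4, 6, 8, 6, 2, 6, 10, 6]])) :
    Y.Done 7 p CL 5388768000 9606125 :=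
  ⟨hM, by norm_num, show AllP (Y.CosOk 7 p J) [(0, [[0], [2], [4], [6], [8], [10], [12]], 5388768000), (1, [[6, 10, 6, 2, 4, 6, 2, 4, 11, 2, 4, 2, 4, 2, 4, 2], [0, 4, 2, 11, 4, 2, 4, 11], [2, 4, 11, 4, 6, 2, 4, 6, 11, 6, 2, 4, 13], [0, 2, 4, 11, 6, 2, 4, 6, 2, 4, 6, 11, 13], [4, 6, 10, 4, 2, 4, 6, 2, 6, 11, 4, 2, 4, 2, 4, 2, 4, 2, 13], [13], [8, 6, 10, 0, 8, 6, 4, 2, 6, 8, 6, 2, 8, 6, 8, 0, 11, 6, 8]], 349920), (3, [[12, 10, 4, 11, 2, 4, 6, 2, 6, 2, 6], [12, 0, 6, 2, 4, 11, 6, 2, 4, 11, 2]], 10080), (4, [[13, 10, 4, 6, 2, 6, 11, 2, 0, 6, 4, 2, 6], [2, 6, 10, 2, 6, 2, 4, 6, 2, 4, 10, 6]], 2880), (5, [[6, 8, 2, 6, 2, 6, 11, 8, 4, 11, 6, 2, 6, 2, 6, 2, 8, 6, 4, 10, 6], [11, 4, 2, 4, 2, 8, 4, 6, 2, 6, 8, 6, 0, 2, 4, 6, 8, 6, 2, 6, 10, 6]], 750)] from AllP.cons (cos0 hu hg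 ht hM) (AllP.cons (cos1 hu hg hφ ha h1) (AllP.cons (cos3 hu hg hφ ha h3) (AllP.cons (cos4 hu hg hφ ha h4) (AllP.cons (cos5 hu hg hφ ha h5) (AllP.nil))))), hu.rinv rinv, by decide +kernel⟩
end

end Cfsg.Agent.Spor.LyUD.V
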